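import Groth.Agent.AbSch.K452.HomUniv
import Groth.Agent.SGA3x.K9.LiftHom
import Groth.Agent.S16790
import Groth.Agent.S5272
import Groth.Agent.SGA3x.K13.NTorsion
import Groth.Agent.SGA3x.K7.ActTriv
import Groth.Agent.Sga3B.RepDescent8
import Groth.Agent.SGA3x.K10.MTKer
import Groth.Agent.SGA3x.K10.MTTors
import Groth.Agent.AbSch.K454.MulEpi
import Groth.Agent.AbSch.K452.NRep
import Groth.Agent.S1489

/-!
# The sheaf of homomorphisms from the torsion of a torus to an abelian scheme

`N = T[n]` the `n`-torsion of a torus `T` over `S` (or any group of multiplicative type finite over `S` and killed by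
`n`), `A` an abelian scheme: `𝓗om(N, A)` is the sheaf of points of a commutative group scheme, étale and affine over
`S`.
* `etale_of_lift`: étaleness by unique infinitesimal lifting, in terms of objects over `S`;
* `exists_family`, `family_ext`: families of homomorphisms from a group of multiplicative type to a smooth commutative
  group lift uniquely along square-zero ideals;
* `etale_of_representsHom`;
* `representsHom_torsion`: `Hom(N, A[n]) = Hom(N, A)`;
* `exists_grp`: a scheme representing the functor of homomorphisms is a group scheme whose sheaf of points is the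
  internal Hom sheaf;
* `main`.
-/

set_option autoImplicit false
universe u
open CategoryTheory CategoryTheory.Limits MonoidalCategory CartesianMonoidalCategory MonObj GrpObj AlgebraicGeometry
open CGrpSh Opposite

namespace K648.HomTor

open Groth.Agent Groth.Agent.Sga3B Groth.Agent.Sga3B.DSPts Groth.Agent.Sga3B.InfConj Groth.Agent.Sga3B.InfConjFam
open Groth.Agent.Sga3B.BcPts Groth.Agent.Sga3B.RepDescent

variable {S : Scheme.{u}}

section Etale

/-- Étaleness by unique lifting, in terms of objects over `S`. -/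
theorem etale_of_lift (Z : Over S) [LocallyOfFinitePresentation Z.hom]
    (h : ∀ (C : Type u) [CommRing C] (I : Ideal C), I ^ 2 = ⊥ → ∀ (x : Spec (CommRingCat.of C) ⟶ S)
      (a : Over.mk (Spec.map (CommRingCat.ofHom (Ideal.Quotient.mk I)) ≫ x) ⟶ Z),
      ∃! l : Over.mk x ⟶ Z, redMap x I ≫ l = a) : Etale Z.hom := by
  rw [Groth.Agent.S1489.result]
  refine ⟨inferInstance, ?_⟩
  intro C _ I hI a b hab
  obtain ⟨l, hl, hu⟩ := h C I hI b (Over.homMk a hab.symm)
  refine ⟨l.left, ⟨congrArg CommaMorphism.left hl, Over.w l⟩, fun l' hl' => ?_⟩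
  have h1 := hu (Over.homMk l' hl'.2) (by
    apply Over.OverMorphism.ext
    exact hl'.1)
  exact congrArg CommaMorphism.left h1

end Etale

section Lift

variable {C : Type u} [CommRing C] (x : Spec (CommRingCat.of C) ⟶ S) (I : Ideal C)
  {N A : Over S} [GrpObj N] [GrpObj A]

/-- Families of homomorphisms from a group of multiplicative type to a smooth group lift. -/
theorem exists_family (hN : K7.MTHaar.IsMT N) (hA : Smooth A.hom) (hI : IsNilpotent I)
    {φ : N ⊗ (Over.map x).obj (pt C (C ⧸ I)) ⟶ A} (hφ : AutFam.IsHomFamily N A φ) :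
    ∃ ψ : N ⊗ (Over.map x).obj (𝟙_ (Over (Spec (CommRingCat.of C)))) ⟶ A, AutFam.IsHomFamily N A ψ ∧
      (N ◁ (Over.map x).map (toUnit (pt C (C ⧸ I)))) ≫ ψ = φ := by
  have hA' : Smooth (Red.bc x A).hom := inferInstanceAs (Smooth (pullback.snd A.hom x))
  obtain ⟨ψ₀, hψ₀, h⟩ := K9.LiftHom.exists_lift_smooth (J := I) hI (K7.ActTriv.isMT_bc x hN) hA' (isHomFamily_toV x hφ)
  have hf : AutFam.IsHomFamily (Red.bc x N) (Red.bc x A) (fst (Red.bc x N) (𝟙_ (Over (Spec (CommRingCat.of C)))) ≫ ψ₀) := by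
    intro X g₁ g₂ t
    rw [lift_fst_assoc, lift_fst_assoc, lift_fst_assoc, MonObj.mul_comp]
  refine ⟨ofV x (fst _ _ ≫ ψ₀), isHomFamily_ofV x hf, ?_⟩
  have h1 : toV x ((N ◁ (Over.map x).map (toUnit (pt C (C ⧸ I)))) ≫ ofV x (fst _ _ ≫ ψ₀)) = toV x φ := by
    rw [toV_pull, toV_ofV, whiskerLeft_fst_assoc, h (fst _ _) (snd _ _), lift_fst_snd, Category.id_comp]
  rw [← ofV_toV x φ, ← h1, ofV_toV]

/-- Uniqueness of the lift, commutative target. -/
theorem family_ext (hN : K7.MTHaar.IsMT N) (hc : ∀ (X : Over S) (a b : X ⟶ A), a * b = b * a) (hI : I ^ 2 = ⊥)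
    {ψ ψ' : N ⊗ (Over.map x).obj (𝟙_ (Over (Spec (CommRingCat.of C)))) ⟶ A} (h1 : AutFam.IsHomFamily N A ψ)
    (h2 : AutFam.IsHomFamily N A ψ')
    (h : (N ◁ (Over.map x).map (toUnit (pt C (C ⧸ I)))) ≫ ψ = (N ◁ (Over.map x).map (toUnit (pt C (C ⧸ I)))) ≫ ψ') :
    ψ = ψ' := by
  have key : ∀ (χ : N ⊗ (Over.map x).obj (𝟙_ (Over (Spec (CommRingCat.of C)))) ⟶ A) {X : Over (Spec (CommRingCat.of C))}
      (g : X ⟶ Red.bc x N), g ≫ lift (𝟙 _) (toUnit _) ≫ toV x χ = lift g (toUnit _) ≫ toV x χ := by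
    intro χ X g
    rw [← Category.assoc, comp_lift, Category.comp_id, comp_toUnit]
  have hm : ∀ (χ : N ⊗ (Over.map x).obj (𝟙_ (Over (Spec (CommRingCat.of C)))) ⟶ A) (_ : AutFam.IsHomFamily N A χ),
      IsMonHom (lift (𝟙 _) (toUnit _) ≫ toV x χ : Red.bc x N ⟶ Red.bc x A) := fun χ hχ =>
    IsoFam.isMonHom_of_mul _ fun T a b => by
      rw [key, key, key]
      exact isHomFamily_toV x hχ _ _ _ _
  have i1 := hm ψ h1
  have i2 := hm ψ' h2
  obtain ⟨g, -, hg⟩ := Groth.Agent.S5272.result I hI (Red.bc x N) (Red.bc x A) (K7.ActTriv.isMT_bc x hN)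
    (lift (𝟙 _) (toUnit _) ≫ toV x ψ) (lift (𝟙 _) (toUnit _) ≫ toV x ψ') (by
      intro X p q
      rw [key, key]
      have h3 : ∀ χ : N ⊗ (Over.map x).obj (𝟙_ (Over (Spec (CommRingCat.of C)))) ⟶ A,
          lift q (toUnit X) ≫ toV x χ = lift q p ≫ toV x ((N ◁ (Over.map x).map (toUnit (pt C (C ⧸ I)))) ≫ χ) := by
        intro χ
        rw [toV_pull, ← Category.assoc, lift_whiskerLeft]
        congr 2
        exact toUnit_unique _ _
      rw [h3, h3, h])
  have hc' : ∀ (X : Over (Spec (CommRingCat.of C))) (a b : X ⟶ Red.bc x A), a * b = b * a := by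
    intro X a b
    apply (DSPts.bcEquiv x X A).symm.injective
    rw [map_mul, map_mul, hc]
  have h4 : toV x ψ = toV x ψ' := by
    have h5 := hg _ (fst (Red.bc x N) (𝟙_ (Over (Spec (CommRingCat.of C)))))
    rw [hc' _ _ (fst _ _ ≫ _), mul_inv_cancel_right, key, key] at h5
    have h6 : lift (fst (Red.bc x N) (𝟙_ (Over (Spec (CommRingCat.of C))))) (toUnit _) = 𝟙 _ := by
      apply CartesianMonoidalCategory.hom_ext
      · rw [lift_fst, Category.id_comp]
      · exact toUnit_unique _ _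
    rw [h6, Category.id_comp, Category.id_comp] at h5
    exact h5.symm
  rw [← ofV_toV x ψ, h4, ofV_toV]

end Lift

/-- **The scheme of homomorphisms from a group of multiplicative type to a smooth commutative group is étale**, as soon
as it exists and is locally of finite presentation. -/
theorem etale_of_representsHom {N A H : Over S} [GrpObj N] [GrpObj A] (hN : K7.MTHaar.IsMT N) (hA : Smooth A.hom)
    (hc : ∀ (X : Over S) (a b : X ⟶ A), a * b = b * a) {ξ : N ⊗ H ⟶ A} (h : AutFam.RepresentsHom N A H ξ)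
    [LocallyOfFinitePresentation H.hom] : Etale H.hom := by
  have inj : ∀ {T : Over S} {a b : T ⟶ H}, (N ◁ a) ≫ ξ = (N ◁ b) ≫ ξ → a = b := by
    intro T a b hab
    exact (h.2 T ((N ◁ b) ≫ ξ) (IsoFam.isHomFamily_pull h.1 b)).unique hab rfl
  refine etale_of_lift H fun C _ I hI x a => ?_
  let T₀ : Over S := Over.mk (Spec.map (CommRingCat.ofHom (Ideal.Quotient.mk I)) ≫ x)
  let e : T₀ ⟶ (Over.map x).obj (pt C (C ⧸ I)) := Over.homMk (𝟙 _) (Category.id_comp _)
  let e' : (Over.map x).obj (pt C (C ⧸ I)) ⟶ T₀ := Over.homMk (𝟙 _) (Category.id_comp _)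
  have hee' : e' ≫ e = 𝟙 _ := by
    apply Over.OverMorphism.ext
    exact Category.id_comp _
  have he'e : e ≫ e' = 𝟙 _ := by
    apply Over.OverMorphism.ext
    exact Category.id_comp _
  let u : Over.mk x ⟶ (Over.map x).obj (𝟙_ (Over (Spec (CommRingCat.of C)))) := Over.homMk (𝟙 _) (by
    simp only [Over.map_obj_hom, Over.mk_hom]
    erw [Category.id_comp, Category.id_comp])
  let u' : (Over.map x).obj (𝟙_ (Over (Spec (CommRingCat.of C)))) ⟶ Over.mk x := Over.homMk (𝟙 _) (by
    simp only [Over.map_obj_hom, Over.mk_hom]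
    erw [Category.id_comp])
  have huu' : u' ≫ u = 𝟙 _ := by
    apply Over.OverMorphism.ext
    exact Category.id_comp _
  have hu'u : u ≫ u' = 𝟙 _ := by
    apply Over.OverMorphism.ext
    exact Category.id_comp _
  have h6 : redMap x I ≫ u = e ≫ (Over.map x).map (toUnit (pt C (C ⧸ I))) := by
    ext1
    simp only [redMap, u, e, Over.comp_left, Over.homMk_left, Over.map_map_left, Over.toUnit_left]
    erw [Category.id_comp, Category.comp_id]
    rfl
  have hI' : IsNilpotent I := ⟨2, hI⟩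
  obtain ⟨ψ, hψ, hψ'⟩ := exists_family x I hN hA hI' (IsoFam.isHomFamily_pull h.1 (e' ≫ a))
  obtain ⟨l, hl, -⟩ := h.2 _ ψ hψ
  have hl' : (Over.map x).map (toUnit (pt C (C ⧸ I))) ≫ l = e' ≫ a := by
    apply inj
    rw [MonoidalCategory.whiskerLeft_comp, Category.assoc, hl, hψ']
  refine ⟨u ≫ l, ?_, fun l' hl'' => ?_⟩
  · dsimp only
    rw [← Category.assoc, h6, Category.assoc, hl', ← Category.assoc, he'e, Category.id_comp]
  · dsimp only at hl''
    have h7 : (Over.map x).map (toUnit (pt C (C ⧸ I))) ≫ u' ≫ l' = e' ≫ a := by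
      have h8 : (Over.map x).map (toUnit (pt C (C ⧸ I))) ≫ u' = e' ≫ redMap x I := by
        calc (Over.map x).map (toUnit (pt C (C ⧸ I))) ≫ u'
            = (e' ≫ e) ≫ (Over.map x).map (toUnit (pt C (C ⧸ I))) ≫ u' := by rw [hee', Category.id_comp]
          _ = e' ≫ (e ≫ (Over.map x).map (toUnit (pt C (C ⧸ I)))) ≫ u' := by simp only [Category.assoc]
          _ = e' ≫ redMap x I := by rw [← h6, Category.assoc, hu'u, Category.comp_id]
      rw [← Category.assoc, h8, Category.assoc, hl'']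
    have h9 : u' ≫ l' = l := by
      apply inj
      refine family_ext x I hN hc hI (IsoFam.isHomFamily_pull h.1 _) (IsoFam.isHomFamily_pull h.1 _) ?_
      rw [← Category.assoc, ← Category.assoc, ← MonoidalCategory.whiskerLeft_comp, ← MonoidalCategory.whiskerLeft_comp,
        h7, hl']
    rw [← h9, ← Category.assoc, hu'u, Category.id_comp]

section Torsion

/-- Homomorphisms from a group killed by `n` factor through the `n`-torsion. -/
theorem representsHom_torsion {N A B M : Over S} [GrpObj N] [GrpObj A] [GrpObj B] (n : ℕ)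
    (hN : ∀ (X : Over S) (g : X ⟶ N), g ^ n = 1) (j : B ⟶ A) [IsMonHom j] [Mono j]
    (hj : ∀ (X : Over S) (a : X ⟶ A), a ^ n = 1 → ∃ b : X ⟶ B, b ≫ j = a) {ev : N ⊗ M ⟶ B}
    (h : AutFam.RepresentsHom N B M ev) : AutFam.RepresentsHom N A M (ev ≫ j) := by
  have one : ∀ {T : Over S} {φ : N ⊗ T ⟶ A} (_ : AutFam.IsHomFamily N A φ) {X : Over S} (t : X ⟶ T),
      lift (1 : X ⟶ N) t ≫ φ = 1 := by
    intro T φ hφ X t
    have h1 := hφ X 1 1 t
    rw [_root_.mul_one] at h1
    exact left_eq_mul.mp h1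
  have pow : ∀ {T : Over S} {φ : N ⊗ T ⟶ A} (_ : AutFam.IsHomFamily N A φ) {X : Over S} (g : X ⟶ N) (t : X ⟶ T) (m : ℕ),
      lift (g ^ m) t ≫ φ = (lift g t ≫ φ) ^ m := by
    intro T φ hφ X g t m
    induction m with
    | zero => rw [pow_zero, pow_zero, one hφ]
    | succ m ih => rw [pow_succ, pow_succ, hφ, ih]
  refine ⟨fun X g₁ g₂ t => ?_, fun T φ hφ => ?_⟩
  · rw [← Category.assoc, h.1, MonObj.mul_comp, Category.assoc, Category.assoc]
  · have h1 : φ ^ n = 1 := by
      have h2 := pow hφ (fst N T) (snd N T) n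
      rw [lift_fst_snd, Category.id_comp, hN, one hφ] at h2
      exact h2.symm
    obtain ⟨φ', hφ'⟩ := hj _ φ h1
    have h3 : AutFam.IsHomFamily N B φ' := by
      intro X g₁ g₂ t
      rw [← cancel_mono j, MonObj.mul_comp, Category.assoc, Category.assoc, Category.assoc, hφ']
      exact hφ X g₁ g₂ t
    obtain ⟨v, hv, hu⟩ := h.2 T φ' h3
    refine ⟨v, ?_, fun w hw => hu w ?_⟩
    · dsimp only at hv ⊢
      rw [← Category.assoc, hv, hφ']
    · dsimp only at hw ⊢
      rw [← cancel_mono j, Category.assoc, hw, hφ']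

end Torsion

section Sheaf

open Groth.Agent.Etdl.H432.Sec K452.HomPts K452.HomFam

variable {A B : Over S} [GrpObj A] [GrpObj B] [IsCommMonObj A] [IsCommMonObj B] {T : Over S}

theorem isHomFamily_toFam (φ : Γs (K771.HomEv.hom (P A) (P B)) T) : AutFam.IsHomFamily A B (toFam φ) := by
  intro X g₁ g₂ t
  rw [lift_toFam, lift_toFam, lift_toFam, sec_mul, map_add, pt_add]

theorem exists_toFam {f : A ⊗ T ⟶ B} (hf : AutFam.IsHomFamily A B f) :
    ∃ φ : Γs (K771.HomEv.hom (P A) (P B)) T, toFam φ = f := by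
  refine ⟨K771.HomEv.mk (F := P A) (G := P B) (T := T) (fun W t =>
    AddMonoidHom.mk' (fun x => sec (lift (pt x) t ≫ f)) (fun x y => by
      rw [pt_add, hf, sec_mul])) (fun W W' t k x => ?_), ?_⟩
  · change r (P B) k (sec (lift (pt x) t ≫ f)) = sec (lift (pt (r (P A) k x)) (k ≫ t) ≫ f)
    rw [r_sec, pt_r, ← comp_lift, Category.assoc]
  · change pt (sec (lift (pt (sec (fst A T))) (snd A T) ≫ f)) = f
    rw [pt_sec, pt_sec, lift_fst_snd, Category.id_comp]

/-- A scheme representing the functor of homomorphisms is a group scheme representing the internal Hom sheaf. -/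
theorem exists_grp {H : Over S} {ξ : A ⊗ H ⟶ B} (h : AutFam.RepresentsHom A B H ξ) :
    ∃ (_ : GrpObj H) (_ : IsCommMonObj H)
    (e : pts Scheme.fppfPrecoverage H ≅ HomSh.homSh (QuotSh.J Scheme.fppfPrecoverage S) (pts Scheme.fppfPrecoverage A)
      (pts Scheme.fppfPrecoverage B)),
    ∀ (T : Over S) (t : T ⟶ H), toFam (A := A) (B := B) (e.hom.hom.app (op T) (ULift.up (Additive.ofMul t))) =
      (A ◁ t) ≫ ξ := by
  obtain ⟨φ, hφ⟩ := exists_toFam h.1
  have hb : ∀ T : Over S, Function.Bijective (fun t : T ⟶ H => r (K771.HomEv.hom (P A) (P B)) t φ) := by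
    intro T
    constructor
    · intro s t hst
      have h1 := congrArg toFam hst
      dsimp only at h1
      rw [toFam_r, toFam_r, hφ] at h1
      exact (h.2 T ((A ◁ t) ≫ ξ) (IsoFam.isHomFamily_pull h.1 t)).unique h1 rfl
    · intro ψ
      obtain ⟨t, ht, -⟩ := h.2 T (toFam ψ) (isHomFamily_toFam ψ)
      refine ⟨t, toFam_injective ?_⟩
      change toFam (r _ t φ) = toFam ψ
      rw [toFam_r, hφ]
      exact ht
  obtain ⟨g1, g2, e, he⟩ := K731.RepPts.exists_grpObj (HomSh.homSh (QuotSh.J Scheme.fppfPrecoverage S)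
    (pts Scheme.fppfPrecoverage A) (pts Scheme.fppfPrecoverage B)) H (fun T => Equiv.ofBijective _ (hb T)) (by
    intro T T' f x
    exact (r_r (K771.HomEv.hom (P A) (P B)) x f φ).symm)
  refine ⟨g1, g2, e, fun T t => ?_⟩
  have h1 := he T t
  have h2 : toFam (A := A) (B := B) (e.hom.hom.app (op T) (ULift.up (Additive.ofMul t))) =
      toFam (r (K771.HomEv.hom (P A) (P B)) t φ) := congrArg toFam h1
  rw [h2, toFam_r, hφ]

end Sheaf

theorem isMT_of_FT {T : Over S} [GrpObj T] (h : SGA3x.IsMultTypeFT T) : K7.MTHaar.IsMT T := by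
  obtain ⟨S', f, hf1, hf2, hf3, hf⟩ := h
  refine ⟨S', f, hf1, hf2, hf3, fun s' => ?_⟩
  obtain ⟨U, hU, M, i, -, e⟩ := hf s'
  exact ⟨U, hU, M, i, e⟩

theorem isMultTypeFT_of_isTorus {T : Over S} [GrpObj T] (h : Red.IsTorus T) : SGA3x.IsMultTypeFT T := by
  obtain ⟨S', f, h1, h2, h3, h4⟩ := h
  refine ⟨S', f, h1, h2, h3, fun s' => ?_⟩
  obtain ⟨U, hU, r, hr⟩ := h4 s'
  exact ⟨U, hU, Fin r → ℤ, inferInstance, inferInstance, hr⟩

/-- **Representability, general form**: `N` of multiplicative type, of finite type, finite over `S` and killed by `n`,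
`A` an abelian scheme. -/
theorem exists_of_killed {N A : Over S} [GrpObj N] [IsCommMonObj N] [GrpObj A] [IsCommMonObj A] [Smooth A.hom]
    [IsProper A.hom] (hA : ∀ s : S, ConnectedSpace ↥(A.hom.fiber s)) (hN : SGA3x.IsMultTypeFT N) [IsFinite N.hom]
    (n : ℕ) (hn : n ≠ 0) (hNn : ∀ (X : Over S) (g : X ⟶ N), g ^ n = 1) :
    ∃ (H : Over S) (_ : GrpObj H) (_ : IsCommMonObj H) (ξ : N ⊗ H ⟶ A)
      (e : pts Scheme.fppfPrecoverage H ≅ HomSh.homSh (QuotSh.J Scheme.fppfPrecoverage S) (pts Scheme.fppfPrecoverage N)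
        (pts Scheme.fppfPrecoverage A)), AutFam.RepresentsHom N A H ξ ∧ Etale H.hom ∧ IsAffineHom H.hom ∧
      ∀ (T : Over S) (t : T ⟶ H), K452.HomFam.toFam (A := N) (B := A)
        (e.hom.hom.app (op T) (ULift.up (Additive.ofMul t))) = (N ◁ t) ≫ ξ := by
  have hmt : K7.MTHaar.IsMT N := isMT_of_FT hN
  have i1 := K454.geometricallyConnected_of_fibres A hA
  have i2 := K448.SmoothConn.geometricallyReduced A.hom
  obtain ⟨B, _, _, j, _, hpb⟩ := K452.NRep.exists_torsion A (n : ℤ)
  obtain ⟨h1, h2, h3⟩ := K454.MulEpi.isFinite_flat_surjective_zpow A (n : ℤ) (by exact_mod_cast hn)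
  have hη : Mono η[A] := ⟨fun a b _ => toUnit_unique a b⟩
  have hm : Mono j := by
    have : Mono η[A] := hη
    exact MorphismProperty.of_isPullback (P := MorphismProperty.monomorphisms (Over S)) hpb.flip this
  have h4 : IsPullback j.left (toUnit B).left (𝟙 A ^ (n : ℤ)).left η[A].left := hpb.map (Over.forget S)
  have h5 : IsFinite (toUnit B).left := MorphismProperty.of_isPullback (P := @IsFinite) h4 h1
  have h6 : LocallyOfFinitePresentation (𝟙 A ^ (n : ℤ)).left := by
    have : LocallyOfFinitePresentation ((𝟙 A ^ (n : ℤ)).left ≫ A.hom) := by rw [Over.w]; infer_instance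
    exact Groth.Agent.Flat2D.LfpComp.lfp_of_comp _ A.hom
  have h7 : LocallyOfFinitePresentation (toUnit B).left :=
    MorphismProperty.of_isPullback (P := @LocallyOfFinitePresentation) h4 h6
  have h8 : IsFinite B.hom := h5
  have h9 : LocallyOfFinitePresentation B.hom := h7
  have h10 : IsAffineHom B.hom := inferInstance
  obtain ⟨M, ev, hMa, hMp, hev, hrep⟩ := Groth.Agent.S16790.result N B inferInstance (K10.MTLoc.flat hN)
    (K10.MTLoc.locallyOfFinitePresentation hN) h10 h9
  have hr : AutFam.RepresentsHom N B M ev := ⟨hev, hrep⟩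
  have hr' : AutFam.RepresentsHom N A M (ev ≫ j) := by
    refine representsHom_torsion n hNn j (fun X a ha => ?_) hr
    refine ⟨hpb.lift a (toUnit X) ?_, hpb.lift_fst _ _ _⟩
    rw [zpow_natCast, MonObj.comp_pow, Category.comp_id, ha, Hom.one_def]
  have hc : ∀ (X : Over S) (a b : X ⟶ A), a * b = b * a := fun X a b => _root_.mul_comm a b
  obtain ⟨g1, g2, e, he⟩ := exists_grp hr'
  exact ⟨M, g1, g2, ev ≫ j, e, hr', etale_of_representsHom hmt inferInstance hc hr', hMa, he⟩

/-- **The homomorphisms from the `n`-torsion of a torus to an abelian scheme form an étale group scheme.** -/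
theorem main (T A N : Over S) [GrpObj T] [IsCommMonObj T] (hT : Red.IsTorus T) [GrpObj A] [IsCommMonObj A]
    [Smooth A.hom] [IsProper A.hom] (hA : ∀ s : S, ConnectedSpace ↥(A.hom.fiber s)) [GrpObj N] [IsCommMonObj N]
    (n : ℤ) (hn : 0 < n) (j : N ⟶ T) [IsMonHom j] (hN : IsPullback j (toUnit N) (𝟙 T ^ n) η[T]) :
    ∃ (H : Over S) (_ : GrpObj H) (_ : IsCommMonObj H), Etale H.hom ∧ IsSeparated H.hom ∧
      Nonempty (CGrpSh.pts Scheme.fppfPrecoverage H ≅ HomSh.homSh (QuotSh.J Scheme.fppfPrecoverage S)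
        (CGrpSh.pts Scheme.fppfPrecoverage N) (CGrpSh.pts Scheme.fppfPrecoverage A)) := by
  obtain ⟨m, rfl⟩ := Int.eq_ofNat_of_zero_le hn.le
  have hm : m ≠ 0 := by
    rintro rfl
    exact lt_irrefl _ hn
  have hη : Mono η[T] := ⟨fun a b _ => toUnit_unique a b⟩
  have hj : Mono j := by
    have : Mono η[T] := hη
    exact MorphismProperty.of_isPullback (P := MorphismProperty.monomorphisms (Over S)) hN.flip this
  have hpow : ∀ (X : Over S) (x : X ⟶ T), x ≫ (𝟙 T ^ (m : ℤ)) = x ^ m := by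
    intro X x
    rw [zpow_natCast, MonObj.comp_pow, Category.comp_id]
  have hiff : ∀ (X : Over S) (x : X ⟶ T), (∃ z : X ⟶ N, z ≫ j = x) ↔ x ^ m = 1 := by
    intro X x
    constructor
    · rintro ⟨z, rfl⟩
      have h1 : z ≫ j ≫ (𝟙 T ^ (m : ℤ)) = z ≫ toUnit N ≫ η[T] := congrArg (fun k => z ≫ k) hN.w
      rw [← Category.assoc, hpow] at h1
      rw [h1, ← Category.assoc, Hom.one_def]
      congr 1
      exact toUnit_unique _ _
    · intro h
      refine ⟨hN.lift x (toUnit X) ?_, hN.lift_fst _ _ _⟩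
      rw [hpow, h, Hom.one_def]
  have hTm : SGA3x.IsMultTypeFT T := isMultTypeFT_of_isTorus hT
  have hNn : ∀ (X : Over S) (g : X ⟶ N), g ^ m = 1 := by
    intro X g
    rw [← cancel_mono j, K13.NTorsion.pow_comp, MonObj.one_comp]
    exact (hiff X (g ≫ j)).mp ⟨g, rfl⟩
  have hNm : SGA3x.IsMultTypeFT N := by
    have h1 : IsAffineHom T.hom := K10.MTLoc.isAffineHom hTm
    have h2 : LocallyOfFinitePresentation T.hom := K10.MTLoc.locallyOfFinitePresentation hTm
    have h3 : IsMonHom (𝟙 T ^ (m : ℤ)) := Groth.Agent.Grpsch.MulFinFlat.isMonHom_zpow (𝟙 T) m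
    exact K10.MTKer.isMultTypeFT_kernel hTm (𝟙 T ^ (m : ℤ)) j fun X x => by rw [hpow]; exact hiff X x
  have hNf : IsFinite N.hom := by
    have hN' : IsPullback j (toUnit N) ((𝟙 T : T ⟶ T) ^ m) η[T] := by
      rw [← zpow_natCast]
      exact hN
    let e : N ≅ K10.MTTors.tors T m := hN'.isoPullback
    have h1 := K10.MTTors.isFinite_tors hTm m hm
    have h2 : IsIso e.hom.left := inferInstanceAs (IsIso ((Over.forget _).map e.hom))
    rw [← Over.w e.hom]
    infer_instance
  obtain ⟨H, g1, g2, ξ, e, -, he, ha, -⟩ := exists_of_killed hA hNm m hm hNn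
  exact ⟨H, g1, g2, he, inferInstance, ⟨e⟩⟩

end K648.HomTor
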